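import Groth.Agent.Lib.SubCurve16.Gen
import Groth.Agent.Lib.RegSecStrat20.Good

/-!
# Line bundles of degree at least `2g` on integral curves have no base points
-/

set_option autoImplicit false
set_option backward.isDefEq.respectTransparency false
set_option linter.all false
set_option maxHeartbeats 1000000

universe u

open CategoryTheory CategoryTheory.Limits AlgebraicGeometry TopologicalSpace Opposite

noncomputable section

namespace GrothLib.SubCurve16

open GrothLib.Euler (tF)

variable {X : Scheme.{u}} (k : Type u) [Field k] [X.Over (Spec (CommRingCat.of k))]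
  [IsProper (X ↘ Spec (CommRingCat.of k))] [IsIntegral X] (hdim : topologicalKrullDim X = 1)

include k hdim in
theorem eq_bot_of_dim_one (J : X.IdealSheafData) (hJ : IsReduced J.subscheme)
    (h1 : topologicalKrullDim J.subscheme = 1) : J = ⊥ := by
  have := Euler.isNoetherian_of_proper (X := X) k
  rw [← Scheme.IdealSheafData.support_eq_top_iff]
  by_contra hne
  have hη : genericPoint X ∉ (J.support : Set X) := fun h => hne (Closeds.ext (Set.eq_univ_of_forall fun x =>
    ((genericPoint_spec X).specializes trivial).mem_closed J.support.isClosed h))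
  haveI : QuasiSober J.subscheme := inferInstance
  have h0 : topologicalKrullDim J.subscheme ≤ 0 := by
    refine (Order.krullDim_eq_of_orderIso (irreducibleSetEquivPoints (α := ↥J.subscheme))).le.trans ?_
    refine Order.krullDim_nonpos_iff_forall_isMax.2 fun a b hab => ?_
    have hb : IsClosed ({J.subschemeι b} : Set X) := CurvePoints.isClosed_singleton hdim.le fun h =>
      hη (h ▸ J.range_subschemeι.le (Set.mem_range_self b))
    have hs : b ⤳ a := hab
    have h2 : J.subschemeι a ∈ closure ({J.subschemeι b} : Set X) :=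
      specializes_iff_mem_closure.1 (hs.map J.subschemeι.continuous)
    rw [hb.closure_eq] at h2
    have hab' : a = b := (Scheme.Hom.isClosedEmbedding J.subschemeι).injective h2
    rw [hab']
  rw [h1] at h0
  exact absurd h0 (by norm_num)

variable {L : X.Modules} (hL : PicF.IsInvertible L)
  (hdeg : 2 * (Curv2.genus k X : ℤ) ≤ Curv2.deg k X L 1)

include hdim hdeg hL in
theorem deg_hyp (J : X.IdealSheafData) (hJ : IsReduced J.subscheme) (hc : ConnectedSpace J.subscheme)
    (h1 : topologicalKrullDim J.subscheme = 1) :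
    2 * (@Curv2.genus k _ J.subscheme ⟨J.subschemeι ≫ (X ↘ (Spec (CommRingCat.of k)))⟩ : ℤ) ≤
      @Curv2.deg k _ J.subscheme ⟨J.subschemeι ≫ (X ↘ (Spec (CommRingCat.of k)))⟩
        ((Scheme.Modules.pullback J.subschemeι).obj L) 1 := by
  have := Euler.isNoetherian_of_proper (X := X) k
  obtain rfl := eq_bot_of_dim_one k hdim J hJ h1
  haveI := Euler.epi_toSubscheme (⊥ : X.IdealSheafData)
  haveI := mono_toSubscheme_of_dense (I := (⊥ : X.IdealSheafData)) (by rw [Scheme.IdealSheafData.support_bot]; rfl)
  haveI : IsIso (ClSub.toSubscheme (⊥ : X.IdealSheafData)) := isIso_of_mono_of_epi _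
  have e0 := asIso (ClSub.toSubscheme (⊥ : X.IdealSheafData))
  have hg : (Curv2.genus k X : ℤ) = @Curv2.genus k _ (⊥ : X.IdealSheafData).subscheme
      ⟨(⊥ : X.IdealSheafData).subschemeι ≫ (X ↘ (Spec (CommRingCat.of k)))⟩ := by
    exact_mod_cast (Euler.hhEquiv (A := k) e0 1).finrank_eq.trans (finrank_quotMod_eq k ⊥ 1)
  rw [← hg]
  refine hdeg.trans (le_of_eq ?_)
  rw [Curv2.deg, Curv2.deg, ← Snapper.euler_quotMod k ⊥,
    ← Snapper.euler_tF_quotMod k ⊥ (Euler.isFinLocFree_of_isInvertible hL),
    Euler.euler_of_iso k e0.symm, ← Euler.euler_of_iso k ((tF L).mapIso e0)]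
  exact congrArg (fun a : ℤ => a - _) (Euler.euler_of_iso k (OX.tensorUnitLeftIso L)).symm

include hdim hdeg hL in
/-- Base point freeness. -/
theorem exists_mem_genLocus (x : X) : ∃ s : Coh.structureModule X ⟶ L, x ∈ CohB1.genLocus L s := by
  have := Euler.isNoetherian_of_proper (X := X) k
  obtain ⟨x₀, hx₀, hcl⟩ := (isClosed_closure (s := ({x} : Set X))).exists_closed_singleton ⟨x, subset_closure rfl⟩
  obtain ⟨V, e, hxV, he⟩ := InvExt.exists_gen_nhd hL x₀
  obtain ⟨s, c, hxc, hc⟩ := exists_generating_section k hdim hL (deg_hyp k hdim hL hdeg) hcl hxV he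
  have hyc : x ∈ X.basicOpen c := (specializes_iff_mem_closure.2 hx₀).mem_open (X.basicOpen c).2 hxc
  refine ⟨FinCov.homOfSection s, ?_⟩
  rw [QCohTwist9.mem_genLocus_iff _ he ((RegSecStrat20.gsecOf_homOfSection s V).trans hc) (X.basicOpen_le c hyc)]
  exact (Scheme.mem_basicOpen _ _ _ _).1 hyc

end GrothLib.SubCurve16
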